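import Mathlib
import Groth.Agent.Lib.Helper8.AntiAff.Reps

set_option autoImplicit false
set_option linter.style.haveILetI false
universe u
open CategoryTheory MonoidalCategory CartesianMonoidalCategory MonObj GrpObj AlgebraicGeometry Limits
  TensorProduct

namespace Groth.Agent.H5.Obs

open Groth.Agent.H8.AntiAff

variable {k : Type u} [Field k]
variable {G : Over (Spec (CommRingCat.of k))}

/-- a natural family of functions on the affine points of `G` is given by a global function. -/
theorem exists_fn (c : NatFn G) :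
    ∃ f : Γ(G.left, ⊤), ∀ (B : Type u) [CommRing B] [Algebra k B] (g : VecGrp.pt k B ⟶ G),
      g.left.appTop.hom f = (Scheme.ΓSpecIso (CommRingCat.of B)).inv.hom (c.c B g) := by
  obtain ⟨F, hF⟩ := exists_glue c
  obtain ⟨ξ, hξ⟩ : ∃ ξ : Γ(A1 k, ⊤),
      ξ = (Scheme.ΓSpecIso (CommRingCat.of (Polynomial k))).inv.hom Polynomial.X := ⟨_, rfl⟩
  refine ⟨F.appTop.hom ξ, fun B _ _ g => ?_⟩
  have hal : algOf G (R := CommRingCat.of B) g.left = ‹Algebra k B› := by
    apply Algebra.algebra_ext
    intro a
    show (Spec.preimage (g.left ≫ G.hom)).hom a = algebraMap k B a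
    have : g.left ≫ G.hom = Spec.map (CommRingCat.ofHom (algebraMap k B)) := Over.w g
    rw [this, Spec.preimage_map]
    rfl
  have hc : cOf c (R := CommRingCat.of B) g.left = c.c B g :=
    c.congr _ _ hal _ _ rfl
  have h1 := hF (R := CommRingCat.of B) g.left
  have h2 := congrArg (fun f => f.appTop.hom ξ) h1
  have hL : (mOf c (R := CommRingCat.of B) g.left).appTop.hom ξ =
      (Scheme.ΓSpecIso (CommRingCat.of B)).inv.hom (cOf c (R := CommRingCat.of B) g.left) := by
    unfold mOf
    have := congrArg (fun f => f.hom Polynomial.X) (Scheme.ΓSpecIso_inv_naturality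
      (CommRingCat.ofHom (Polynomial.eval₂RingHom (Spec.preimage (g.left ≫ G.hom)).hom
        (cOf c (R := CommRingCat.of B) g.left))))
    simp only [CommRingCat.hom_comp, RingHom.comp_apply, CommRingCat.hom_ofHom,
      Polynomial.coe_eval₂RingHom, Polynomial.eval₂_X] at this
    rw [hξ]
    exact this.symm
  have hR : (g.left ≫ F).appTop.hom ξ = g.left.appTop.hom (F.appTop.hom ξ) := by
    rw [Scheme.Hom.comp_appTop]
    rfl
  rw [← hR, ← hc]
  exact h2.symm.trans hL

end Groth.Agent.H5.Obs
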