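import Mathlib
import Groth.Prelude.Def_W4bk4grossh111Obs
import Groth.Agent.Lib.Helper5.Obs.Fn

set_option autoImplicit false
set_option linter.style.haveILetI false
universe u
open CategoryTheory MonoidalCategory CartesianMonoidalCategory MonObj GrpObj AlgebraicGeometry Limits
  TensorProduct

namespace Groth.Agent.H5.Obs

open Groth.Agent.H8.AntiAff

variable {k : Type u} [Field k]
variable {G : Over (Spec (CommRingCat.of k))} [GrpObj G]

theorem comp_whiskerLeft_mul {X H : Over (Spec (CommRingCat.of k))} (x : X ⟶ G ⊗ H) (i : H ⟶ G) :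
    x ≫ (G ◁ i) ≫ μ[G] = (x ≫ fst G H) * (x ≫ snd G H ≫ i) := by
  rw [Hom.mul_def, ← Category.assoc]
  congr 1
  ext <;> simp

/-- evaluating a functional after the identification `k ⊗ M = M`. -/
theorem evL_eq_lid {M : Type u} [AddCommGroup M] [Module k M] (ℓ : M →ₗ[k] k) (x : k ⊗[k] M) :
    evL ℓ k x = ℓ (TensorProduct.lid k M x) := by
  induction x using TensorProduct.induction_on with
  | zero => simp
  | tmul b v => rw [evL_tmul, TensorProduct.lid_tmul, map_smul, smul_eq_mul, smul_eq_mul, mul_comm]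
  | add x y hx hy => simp only [map_add, hx, hy]

theorem eq_of_evL_field {M : Type u} [AddCommGroup M] [Module k M] (x y : k ⊗[k] M)
    (h : ∀ ℓ : M →ₗ[k] k, evL ℓ k x = evL ℓ k y) : x = y := by
  apply (TensorProduct.lid k M).injective
  rw [← sub_eq_zero, ← Module.forall_dual_apply_eq_zero_iff k]
  intro ℓ
  have := h ℓ
  rw [evL_eq_lid, evL_eq_lid] at this
  rw [map_sub, sub_eq_zero]
  exact this

variable {M : Type u} [AddCommGroup M] [Module k M]

/-- the matrix coefficient of an `H`-invariant vector is right `H`-invariant. -/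
theorem isRTransInv_of_fixed [IsAffine G.left] {H : Over (Spec (CommRingCat.of k))}
    [IsAffine H.left] (i : H ⟶ G) (ρ : VecGrp.GMod G M) (a : M) (ha : a ∈ ρ.fixedUnder i)
    (ℓ : M →ₗ[k] k) (f : Γ(G.left, ⊤))
    (hf : ∀ (B : Type u) [CommRing B] [Algebra k B] (g : VecGrp.pt k B ⟶ G),
      g.left.appTop.hom f =
        (Scheme.ΓSpecIso (CommRingCat.of B)).inv.hom ((natFnOf ρ ℓ a).c B g)) :
    AGF.IsRTransInv i f := by
  haveI : IsAffine (G ⊗ H).left := by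
    rw [Over.tensorObj_left]; infer_instance
  obtain ⟨j, hj⟩ : ∃ j : Spec Γ((G ⊗ H).left, ⊤) ⟶ (G ⊗ H).left, j = (G ⊗ H).left.isoSpec.inv :=
    ⟨_, rfl⟩
  haveI : IsIso j := by rw [hj]; infer_instance
  letI : Algebra k Γ((G ⊗ H).left, ⊤) := algOf (G ⊗ H) j
  let p : VecGrp.pt k Γ((G ⊗ H).left, ⊤) ⟶ G ⊗ H := ptOf (G ⊗ H) j
  have hpl : p.left = j := rfl
  have key : ∀ φ : G ⊗ H ⟶ G, j.appTop.hom (φ.left.appTop.hom f) =
      (Scheme.ΓSpecIso (CommRingCat.of Γ((G ⊗ H).left, ⊤))).inv.hom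
        ((natFnOf ρ ℓ a).c _ (p ≫ φ)) := by
    intro φ
    rw [← hf _ (p ≫ φ), Over.comp_left, Scheme.Hom.comp_appTop, hpl]
    rfl
  haveI : IsIso j.appTop := inferInstanceAs (IsIso (j.app ⊤))
  have hinj : Function.Injective j.appTop.hom :=
    (ConcreteCategory.bijective_of_isIso j.appTop).injective
  unfold AGF.IsRTransInv
  apply hinj
  change j.appTop.hom (((G ◁ i) ≫ μ[G]).left.appTop.hom f) =
    j.appTop.hom ((fst G H).left.appTop.hom f)
  rw [key, key]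
  congr 1
  show evL ℓ _ (ρ.ρ _ (p ≫ (G ◁ i) ≫ μ[G]) (1 ⊗ₜ[k] a)) = evL ℓ _ (ρ.ρ _ (p ≫ fst G H) (1 ⊗ₜ[k] a))
  rw [comp_whiskerLeft_mul, map_mul, LinearEquiv.mul_apply]
  have h2 := ha Γ((G ⊗ H).left, ⊤) (p ≫ snd G H)
  rw [Category.assoc] at h2
  rw [h2]

/-- a rational point fixing the matrix coefficients of `a` fixes `a`. -/
theorem fixed_of_isRTransInv (ρ : VecGrp.GMod G M) (a : M) (g : VecGrp.pt k k ⟶ G)
    (h : ∀ (ℓ : M →ₗ[k] k), ∃ f : Γ(G.left, ⊤), AGF.IsRTransInv g f ∧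
      ∀ (B : Type u) [CommRing B] [Algebra k B] (g : VecGrp.pt k B ⟶ G),
      g.left.appTop.hom f =
        (Scheme.ΓSpecIso (CommRingCat.of B)).inv.hom ((natFnOf ρ ℓ a).c B g)) :
    ρ.ρ k g ((1 : k) ⊗ₜ[k] a) = (1 : k) ⊗ₜ[k] a := by
  apply eq_of_evL_field
  intro ℓ
  obtain ⟨f, hgf, hf⟩ := h ℓ
  let q : VecGrp.pt k k ⟶ G ⊗ VecGrp.pt k k := lift 1 (𝟙 _)
  unfold AGF.IsRTransInv at hgf
  have h1 := congrArg (fun t => q.left.appTop.hom t) hgf
  have e1 : q.left.appTop.hom (((G ◁ g) ≫ μ[G]).left.appTop.hom f) =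
      (q ≫ (G ◁ g) ≫ μ[G]).left.appTop.hom f := by
    rw [Over.comp_left, Scheme.Hom.comp_appTop]; rfl
  have e2 : q.left.appTop.hom ((fst G (VecGrp.pt k k)).left.appTop.hom f) =
      (q ≫ fst G (VecGrp.pt k k)).left.appTop.hom f := by
    rw [Over.comp_left, Scheme.Hom.comp_appTop]; rfl
  have e3 : q ≫ (G ◁ g) ≫ μ[G] = g := by
    rw [comp_whiskerLeft_mul]
    simp [q]
  have e4 : q ≫ fst G (VecGrp.pt k k) = 1 := by simp [q]
  have h2 : g.left.appTop.hom f = (1 : VecGrp.pt k k ⟶ G).left.appTop.hom f := by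
    rw [← e3, ← e4, ← e1, ← e2]
    exact h1
  rw [hf k g, hf k 1] at h2
  have h3 := (ConcreteCategory.bijective_of_isIso
    (Scheme.ΓSpecIso (CommRingCat.of k)).inv).injective h2
  have h4 : evL ℓ k (ρ.ρ k g (1 ⊗ₜ[k] a)) = evL ℓ k (ρ.ρ k 1 (1 ⊗ₜ[k] a)) := h3
  rw [h4, map_one]
  rfl

end Groth.Agent.H5.Obs
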